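import Mathlib
import Cfsg.Agent.Lib.Fischer5.CommProd
import Cfsg.Agent.Lib.ThreeTransp.Hexad

/-!
# Type M(22): the centraliser order of a product of three commuting transpositions
-/

set_option autoImplicit false

namespace Cfsg.Agent.Lib.Fischer5

open Cfsg Cfsg.Agent.Lib.ThreeTransp Cfsg.Agent.Lib.ThreeTransp.Products
open Cfsg.Agent.Lib.M22Struct66 (CommProd nb com2)

/-- The orderings of three members. -/
def orderings {α : Type*} [DecidableEq α] (a b c : α) : Finset (α × α × α) :=
  {(a, b, c), (a, c, b), (b, a, c), (b, c, a), (c, a, b), (c, b, a)}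

theorem card_orderings {α : Type*} [DecidableEq α] {a b c : α} (hab : a ≠ b) (hac : a ≠ c) (hbc : b ≠ c) :
    (orderings a b c).card = 6 := by
  simp [orderings, hab, hac, hbc, hab.symm, hac.symm, hbc.symm]

theorem mem_orderings {α : Type*} [DecidableEq α] {a b c u v w : α}
    (h : ∀ x, x ∈ [u, v, w] ↔ x ∈ [a, b, c]) (huv : u ≠ v) (huw : u ≠ w) (hvw : v ≠ w) :
    (u, v, w) ∈ orderings a b c := by
  have hu := (h u).1 (by simp)
  have hv := (h v).1 (by simp)
  have hw := (h w).1 (by simp)
  simp only [List.mem_cons, List.not_mem_nil, or_false] at hu hv hw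
  rcases hu with rfl | rfl | rfl <;> rcases hv with rfl | rfl | rfl <;> rcases hw with rfl | rfl | rfl <;>
    simp_all [orderings]

variable {G : Type*} [Group G] [Finite G] {D : Set G}

/-- The order of the centraliser of a product of three. -/
theorem card_centralizer_triple (hD : IsThreeTranspositionGroup D) (hprim : IsPrimitiveUnderConj D)
    (h : IsOfTypeM22 G D) (hF : M22Struct66.Facts D) {j : G} (hj : CommProd D 3 j) :
    Nat.card ↥(Subgroup.centralizer ({j} : Set G)) = 2 ^ 16 * 3 ^ 3 := by
  classical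
  have : Fintype G := Fintype.ofFinite G
  have hc := hD.2.1
  set K : Finset G := Finset.univ.filter fun x => CommProd D 3 x
  set T : Finset (G × G × G) := (D.toFinset ×ˢ D.toFinset ×ˢ D.toFinset).filter fun t =>
    t.2.1 ∈ nb D t.1 ∧ t.2.2 ∈ com2 D t.1 t.2.1
  -- counting the ordered triples
  have hT : T.card = 3510 * (693 * 180) := by
    have hmap : ∀ t ∈ T, t.1 ∈ D.toFinset := fun t ht => (Finset.mem_product.1 (Finset.mem_filter.1 ht).1).1
    rw [Finset.card_eq_sum_card_fiberwise hmap]
    have hfib : ∀ a ∈ D.toFinset, (T.filter fun t => t.1 = a).card = 693 * 180 := by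
      intro a ha
      rw [Set.mem_toFinset] at ha
      set P : Finset (G × G) := (D.toFinset ×ˢ D.toFinset).filter fun p =>
        p.1 ∈ nb D a ∧ p.2 ∈ com2 D a p.1
      have e : T.filter (fun t => t.1 = a) = P.image fun p => (a, p) := by
        ext ⟨x, y, z⟩
        simp only [T, P, Finset.mem_filter, Finset.mem_product, Finset.mem_image, Prod.mk.injEq,
          Set.mem_toFinset, Prod.exists]
        constructor
        · rintro ⟨⟨⟨hx, hy, hz⟩, h1, h2⟩, rfl⟩
          exact ⟨y, z, ⟨⟨hy, hz⟩, h1, h2⟩, rfl, rfl, rfl⟩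
        · rintro ⟨y', z', ⟨⟨hy, hz⟩, h1, h2⟩, rfl, rfl, rfl⟩
          exact ⟨⟨⟨ha, hy, hz⟩, h1, h2⟩, rfl⟩
      rw [e, Finset.card_image_of_injective _ (fun p q hpq => (Prod.mk.injEq _ _ _ _ ▸ hpq).2)]
      have hmap' : ∀ p ∈ P, p.1 ∈ (nb D a).toFinset := fun p hp => by
        rw [Set.mem_toFinset]; exact (Finset.mem_filter.1 hp).2.1
      rw [Finset.card_eq_sum_card_fiberwise hmap', Finset.sum_const_nat (m := 180), ← Set.ncard_eq_toFinset_card',
        hF.ncard_nb a ha]
      intro b hb
      rw [Set.mem_toFinset] at hb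
      have e2 : P.filter (fun p => p.1 = b) = (com2 D a b).toFinset.image fun z => (b, z) := by
        ext ⟨y, z⟩
        simp only [P, Finset.mem_filter, Finset.mem_product, Finset.mem_image, Prod.mk.injEq, Set.mem_toFinset]
        constructor
        · rintro ⟨⟨-, -, h2⟩, rfl⟩
          exact ⟨z, h2, rfl, rfl⟩
        · rintro ⟨z', h2, rfl, rfl⟩
          exact ⟨⟨⟨hb.1, h2.1.1⟩, hb, h2⟩, rfl⟩
      rw [e2, Finset.card_image_of_injective _ (fun p q hpq => (Prod.mk.injEq _ _ _ _ ▸ hpq).2),
        ← Set.ncard_eq_toFinset_card', hF.ncard_com2_commute a ha b hb]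
    rw [Finset.sum_const_nat hfib, ← Set.ncard_eq_toFinset_card', hF.ncard_D]
  -- twelve triples over each product
  have hK : T.card = 12 * K.card := by
    have hfacts : ∀ t ∈ T, t.1 ∈ D ∧ t.2.1 ∈ D ∧ t.2.2 ∈ D ∧ t.1 ≠ t.2.1 ∧ t.1 ≠ t.2.2 ∧ t.2.1 ≠ t.2.2 ∧
        Commute t.1 t.2.1 ∧ Commute t.1 t.2.2 ∧ Commute t.2.1 t.2.2 := by
      intro t ht
      obtain ⟨hmem, h1, h2⟩ := Finset.mem_filter.1 ht
      simp only [Finset.mem_product, Set.mem_toFinset] at hmem
      exact ⟨hmem.1, hmem.2.1, hmem.2.2, h1.2.1.symm, h2.1.2.1.symm, h2.2.2.1.symm, h1.2.2, h2.1.2.2, h2.2.2.2⟩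
    have hmap : ∀ t ∈ T, t.1 * t.2.1 * t.2.2 ∈ K := by
      intro t ht
      obtain ⟨k1, k2, k3, n12, n13, n23, c12, c13, c23⟩ := hfacts t ht
      refine Finset.mem_filter.2 ⟨Finset.mem_univ _, [t.1, t.2.1, t.2.2], by simp [n12, n13, n23], rfl,
        by simp [k1, k2, k3], by simp [c12, c13, c23, c12.symm, c13.symm, c23.symm, Commute.refl],
        by simp [mul_assoc]⟩
    rw [Finset.card_eq_sum_card_fiberwise hmap, Finset.sum_const_nat (m := 12), mul_comm]
    intro x hx
    obtain ⟨l, hnd, hlen, hmem, hcomm, hp⟩ := (Finset.mem_filter.1 hx).2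
    obtain ⟨a, b, c, rfl⟩ := List.length_eq_three.1 hlen
    simp only [List.nodup_cons, List.mem_cons, List.not_mem_nil, or_false, not_or, not_false_eq_true,
      List.nodup_nil, and_true] at hnd
    have hp' : a * b * c = x := by simpa [mul_assoc] using hp
    obtain ⟨p, q, r, hnd', hmem', hcomm', hprod', hnot, huniq⟩ := two_factorisations hD hprim h
      (hmem a (by simp)) (hmem b (by simp)) (hmem c (by simp)) hnd.1.1 hnd.1.2 hnd.2
      (hcomm a (by simp) b (by simp)) (hcomm a (by simp) c (by simp)) (hcomm b (by simp) c (by simp))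
    simp only [List.nodup_cons, List.mem_cons, List.not_mem_nil, or_false, not_or, not_false_eq_true,
      List.nodup_nil, and_true] at hnd'
    have hfib : T.filter (fun t => t.1 * t.2.1 * t.2.2 = x) = orderings a b c ∪ orderings p q r := by
      ext ⟨u, v, w⟩
      constructor
      · intro ht
        obtain ⟨ht, hte⟩ := Finset.mem_filter.1 ht
        obtain ⟨k1, k2, k3, n12, n13, n23, c12, c13, c23⟩ := hfacts _ ht
        rcases huniq [u, v, w] (by simp [n12, n13, n23]) rfl (by simp [k1, k2, k3])
          (by simp [c12, c13, c23, c12.symm, c13.symm, c23.symm, Commute.refl])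
          (by rw [hp', ← hte]; simp [mul_assoc]) with h' | h'
        · exact Finset.mem_union_left _ (mem_orderings h' n12 n13 n23)
        · exact Finset.mem_union_right _ (mem_orderings h' n12 n13 n23)
      · intro ht
        have key : ∀ a b c : G, a ∈ D → b ∈ D → c ∈ D → a ≠ b → a ≠ c → b ≠ c → Commute a b → Commute a c →
            Commute b c → a * b * c = x → (u, v, w) ∈ orderings a b c →
            (u, v, w) ∈ T.filter (fun t => t.1 * t.2.1 * t.2.2 = x) := by
          intro a b c ha hb hc nab nac nbc cab cac cbc hx' hm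
          have htri : ∀ u v w : G, u ∈ D → v ∈ D → w ∈ D → u ≠ v → u ≠ w → v ≠ w → Commute u v → Commute u w →
              Commute v w → u * v * w = x → (u, v, w) ∈ T.filter (fun t => t.1 * t.2.1 * t.2.2 = x) := by
            intro u v w hu hv hw n1 n2 n3 e1 e2 e3 e
            refine Finset.mem_filter.2 ⟨Finset.mem_filter.2 ⟨?_, ⟨hv, n1.symm, e1⟩,
              ⟨hw, n2.symm, e2⟩, hw, n3.symm, e3⟩, e⟩
            simp [hu, hv, hw]
          simp only [orderings, Finset.mem_insert, Finset.mem_singleton, Prod.mk.injEq] at hm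
          rcases hm with ⟨rfl, rfl, rfl⟩ | ⟨rfl, rfl, rfl⟩ | ⟨rfl, rfl, rfl⟩ | ⟨rfl, rfl, rfl⟩ |
            ⟨rfl, rfl, rfl⟩ | ⟨rfl, rfl, rfl⟩
          · exact htri _ _ _ ha hb hc nab nac nbc cab cac cbc hx'
          · exact htri _ _ _ ha hc hb nac nab nbc.symm cac cab cbc.symm
              (by rw [mul_assoc, ← cbc.eq, ← mul_assoc]; exact hx')
          · exact htri _ _ _ hb ha hc nab.symm nbc nac cab.symm cbc cac (by rw [← cab.eq]; exact hx')
          · exact htri _ _ _ hb hc ha nbc nab.symm nac.symm cbc cab.symm cac.symm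
              (by rw [(cab.mul_right cac).symm.eq, ← mul_assoc]; exact hx')
          · exact htri _ _ _ hc ha hb nac.symm nbc.symm nab cac.symm cbc.symm cab
              (by rw [mul_assoc, (cac.mul_left cbc).symm.eq]; exact hx')
          · exact htri _ _ _ hc hb ha nbc.symm nac.symm nab.symm cbc.symm cac.symm cab.symm
              (by rw [← cbc.eq, (cab.mul_right cac).symm.eq, ← mul_assoc]; exact hx')
        rcases Finset.mem_union.1 ht with ht | ht
        · exact key a b c (hmem a (by simp)) (hmem b (by simp)) (hmem c (by simp)) hnd.1.1 hnd.1.2 hnd.2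
            (hcomm a (by simp) b (by simp)) (hcomm a (by simp) c (by simp)) (hcomm b (by simp) c (by simp)) hp' ht
        · exact key p q r (hmem' p (by simp)) (hmem' q (by simp)) (hmem' r (by simp)) hnd'.1.1 hnd'.1.2 hnd'.2
            (hcomm' p (by simp) q (by simp)) (hcomm' p (by simp) r (by simp)) (hcomm' q (by simp) r (by simp))
            (by rw [← hp', ← hprod']; simp [mul_assoc]) ht
    have hdisj : Disjoint (orderings a b c) (orderings p q r) := by
      rw [Finset.disjoint_left]
      rintro ⟨u, v, w⟩ h1 h2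
      have hu1 : u ∈ [a, b, c] := by
        simp only [orderings, Finset.mem_insert, Finset.mem_singleton, Prod.mk.injEq] at h1
        rcases h1 with h | h | h | h | h | h <;> simp [h.1]
      have hu2 : u ∈ [p, q, r] := by
        simp only [orderings, Finset.mem_insert, Finset.mem_singleton, Prod.mk.injEq] at h2
        rcases h2 with h | h | h | h | h | h <;> simp [h.1]
      exact hnot u hu2 hu1
    rw [hfib, Finset.card_union_of_disjoint hdisj, card_orderings hnd.1.1 hnd.1.2 hnd.2,
      card_orderings hnd'.1.1 hnd'.1.2 hnd'.2]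
  -- the class of `j`
  have horb : (MulAction.orbit (ConjAct G) j) = (K : Set G) := by
    ext x
    simp only [K, Finset.coe_filter, Finset.mem_univ, true_and, Set.mem_ofPred_eq, ConjAct.mem_orbit_conjAct]
    constructor
    · intro hx
      obtain ⟨g, hg⟩ := isConj_iff.1 (IsConj.symm hx)
      exact hg ▸ commProd_cj hc hj g
    · exact fun hx => hF.commProd_isConj 3 (by norm_num) le_rfl x j hx hj
  have hstab := MulAction.index_stabilizer (G := ConjAct G) j
  rw [horb, Set.ncard_coe_finset] at hstab
  have hcard := Subgroup.card_mul_index (MulAction.stabilizer (ConjAct G) j)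
  rw [hstab, ← Subgroup.nat_card_centralizer_nat_card_stabilizer,
    show Nat.card (ConjAct G) = Nat.card G from rfl, hF.card_G] at hcard
  rw [hT] at hK
  have hKc : K.card = 36486450 := by norm_num at hK ⊢; omega
  rw [hKc] at hcard
  norm_num at hcard ⊢
  omega

end Cfsg.Agent.Lib.Fischer5
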